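import Groth.Agent.H20Cartan.Pres
import Groth.Prelude.Def_W4sga3xiixivxvCartan

/-!
Relative Cartan subalgebras and quasi-regular elements.
-/

set_option autoImplicit false

universe u

open TensorProduct LieAlgebra Module SGA3t2b

namespace Groth.Agent.H20Cartan

noncomputable section

attribute [local instance 100] LieRing.ofAssociativeRing

variable {A : Type u} [CommRing A] {L : Type u} [LieRing L] [LieAlgebra A L]

/-- Base change of an isomorphism of Lie algebras over any ring. -/
def congrLie (S : Type u) [CommRing S] [Algebra A S] {M : Type u} [LieRing M] [LieAlgebra A M] (e : L ≃ₗ⁅A⁆ M) :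
    (S ⊗[A] L) ≃ₗ⁅S⁆ (S ⊗[A] M) :=
  { TensorProduct.AlgebraTensorModule.congr (LinearEquiv.refl S S) e.toLinearEquiv with
    map_lie' := by
      have h : ∀ x y : S ⊗[A] L, TensorProduct.AlgebraTensorModule.congr (LinearEquiv.refl S S) e.toLinearEquiv
          (ad S (S ⊗[A] L) x y) = ad S (S ⊗[A] M)
            (TensorProduct.AlgebraTensorModule.congr (LinearEquiv.refl S S) e.toLinearEquiv x)
            (TensorProduct.AlgebraTensorModule.congr (LinearEquiv.refl S S) e.toLinearEquiv y) := by
        intro x y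
        induction x using TensorProduct.induction_on with
        | zero => simp
        | add p q hp hq => simp only [map_add, LinearMap.add_apply, hp, hq]
        | tmul c x =>
          induction y using TensorProduct.induction_on with
          | zero => simp only [map_zero]
          | add p q hp hq => simp only [map_add, hp, hq]
          | tmul d y =>
            simp only [LieAlgebra.ad_apply, LieAlgebra.ExtendScalars.bracket_tmul,
              TensorProduct.AlgebraTensorModule.congr_tmul, LinearEquiv.refl_apply]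
            exact congrArg _ (e.map_lie x y)
      intro x y
      exact h x y }

theorem congrLie_tmul (S : Type u) [CommRing S] [Algebra A S] {M : Type u} [LieRing M] [LieAlgebra A M]
    (e : L ≃ₗ⁅A⁆ M) (s : S) (x : L) : congrLie S e (s ⊗ₜ[A] x) = s ⊗ₜ[A] e x := rfl

variable (K : Type u) [Field K] [Algebra A K]

/-- The inclusion of the fibre of a subalgebra, as a homomorphism of Lie algebras. -/
def fibreHom (H : LieSubalgebra A L) : (K ⊗[A] H) →ₗ⁅K⁆ (K ⊗[A] L) :=
  { H.toSubmodule.subtype.baseChange K with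
    map_lie' := by
      have h : ∀ x y : K ⊗[A] H, H.toSubmodule.subtype.baseChange K (ad K (K ⊗[A] H) x y) =
          ad K (K ⊗[A] L) (H.toSubmodule.subtype.baseChange K x) (H.toSubmodule.subtype.baseChange K y) := by
        intro x y
        induction x using TensorProduct.induction_on with
        | zero => simp
        | add p q hp hq => simp only [map_add, LinearMap.add_apply, hp, hq]
        | tmul c x =>
          induction y using TensorProduct.induction_on with
          | zero => simp only [map_zero]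
          | add p q hp hq => simp only [map_add, hp, hq]
          | tmul d y =>
            simp only [LieAlgebra.ad_apply, LieAlgebra.ExtendScalars.bracket_tmul, LinearMap.baseChange_tmul]
            rfl
      intro x y
      exact h x y }

variable (H : LieSubalgebra A L)

theorem exists_retraction [Module.Projective A (L ⧸ H.toSubmodule)] :
    ∃ r : L →ₗ[A] H.toSubmodule, ∀ x : H.toSubmodule, r x = x := by
  obtain ⟨s, hs⟩ := Module.projective_lifting_property H.toSubmodule.mkQ LinearMap.id (Submodule.mkQ_surjective _)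
  refine ⟨(LinearMap.id - s ∘ₗ H.toSubmodule.mkQ).codRestrict H.toSubmodule fun x => ?_, fun x => Subtype.ext ?_⟩
  · simp [(Submodule.Quotient.mk_eq_zero H.toSubmodule).2 x.2]
  · refine (Submodule.Quotient.mk_eq_zero H.toSubmodule).1 ?_
    rw [LinearMap.sub_apply, Submodule.Quotient.mk_sub, LinearMap.comp_apply]
    exact sub_eq_zero.2 (LinearMap.congr_fun hs _).symm

theorem finite_of_projQuot [Module.Finite A L] [Module.Projective A (L ⧸ H.toSubmodule)] : Module.Finite A H := by
  obtain ⟨r, hr⟩ := exists_retraction H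
  exact Module.Finite.of_surjective r fun x => ⟨x, hr x⟩

theorem projective_of_projQuot [Module.Projective A L] [Module.Projective A (L ⧸ H.toSubmodule)] :
    Module.Projective A H := by
  obtain ⟨r, hr⟩ := exists_retraction H
  exact Module.Projective.of_split H.toSubmodule.subtype r (LinearMap.ext hr)

theorem fibreHom_injective [Module.Projective A (L ⧸ H.toSubmodule)] : Function.Injective (fibreHom K H) := by
  obtain ⟨r, hr⟩ := exists_retraction H
  refine Function.LeftInverse.injective (g := r.baseChange K) fun x => ?_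
  show r.baseChange K (H.toSubmodule.subtype.baseChange K x) = x
  rw [← LinearMap.comp_apply, ← LinearMap.baseChange_comp,
    show r ∘ₗ H.toSubmodule.subtype = LinearMap.id from LinearMap.ext hr, LinearMap.baseChange_id, LinearMap.id_apply]

theorem finrank_baseChange_eq [Module.Projective A (L ⧸ H.toSubmodule)] :
    finrank K (H.toSubmodule.baseChange K) = finrank K (K ⊗[A] H) :=
  LinearMap.finrank_range_of_inj (fibreHom_injective K H)

/-- Membership in the fibre is being killed in the quotient. -/
theorem mem_baseChange_iff (z : K ⊗[A] L) :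
    z ∈ H.toSubmodule.baseChange K ↔ H.toSubmodule.mkQ.baseChange K z = 0 := by
  have h := lTensor_exact K (LinearMap.exact_subtype_mkQ H.toSubmodule) H.toSubmodule.mkQ_surjective z
  rw [LinearMap.baseChange_eq_ltensor]
  exact h.symm

theorem engel_smul {V : Type u} [LieRing V] [LieAlgebra K V] {c : K} (hc : c ≠ 0) (x : V) :
    LieSubalgebra.engel K (c • x) = LieSubalgebra.engel K x := by
  refine LieSubalgebra.ext _ _ fun y => ?_
  rw [LieSubalgebra.mem_engel_iff, LieSubalgebra.mem_engel_iff]
  refine exists_congr fun n => ?_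
  rw [map_smul, smul_pow, LinearMap.smul_apply, smul_eq_zero, or_iff_right (pow_ne_zero n hc)]

theorem isRegular_smul {V : Type u} [LieRing V] [LieAlgebra K V] [Module.Finite K V] {c : K} (hc : c ≠ 0) (x : V) :
    IsRegular K (c • x) ↔ IsRegular K x := by
  rw [isRegular_iff_finrank_engel_eq_rank, isRegular_iff_finrank_engel_eq_rank, engel_smul K hc]

theorem fibre_le_engel (hn : LieRing.IsNilpotent (K ⊗[A] H)) {x : K ⊗[A] L}
    (hx : x ∈ H.toSubmodule.baseChange K) {y : K ⊗[A] L} (hy : y ∈ H.toSubmodule.baseChange K) :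
    y ∈ LieSubalgebra.engel K x := by
  haveI := hn
  obtain ⟨n, hn'⟩ := LieAlgebra.nilpotent_ad_of_nilpotent_algebra K (K ⊗[A] H)
  obtain ⟨x₀, rfl⟩ := hx
  obtain ⟨y₀, rfl⟩ := hy
  refine (LieSubalgebra.mem_engel_iff K _ _).2 ⟨n, ?_⟩
  have h : ∀ j, ((ad K (K ⊗[A] L) (fibreHom K H x₀)) ^ j) (fibreHom K H y₀) =
      fibreHom K H (((ad K (K ⊗[A] H) x₀) ^ j) y₀) := by
    intro j
    induction j with
    | zero => rfl
    | succ j ih =>
      rw [pow_succ', pow_succ', Module.End.mul_apply, Module.End.mul_apply, ih, ad_apply, ad_apply, LieHom.map_lie]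
  refine (h n).trans ?_
  rw [hn' x₀, LinearMap.zero_apply, map_zero]

section Cartan

variable [Module.Finite A L]

theorem fibre_eq_engel (hH : IsCartanRel H) (p : PrimeSpectrum A) {x : p.asIdeal.ResidueField ⊗[A] L}
    (hx : x ∈ fibreSubmodule p H) (hreg : IsRegular p.asIdeal.ResidueField x) :
    fibreSubmodule p H = (LieSubalgebra.engel p.asIdeal.ResidueField x).toSubmodule := by
  obtain ⟨hn, -, hrk⟩ := hH.2 p
  refine Submodule.eq_of_le_of_finrank_le (fun y hy => fibre_le_engel _ H hn hx hy) ?_
  rw [hrk]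
  exact ((isRegular_iff_finrank_engel_eq_rank _ x).1 hreg).le

theorem mem_engel_of_mem (hH : IsCartanRel H) [Module.Projective A L] {a : L} (ha : a ∈ H) {y : L} (hy : y ∈ H) :
    y ∈ LieSubalgebra.engel A a := by
  classical
  haveI := hH.1
  haveI := finite_of_projQuot H
  haveI := projective_of_projQuot H
  obtain ⟨P⟩ := exists_pres (A := A) (L := H)
  let u : H →ₗ[A] H := ad A H ⟨a, ha⟩
  let U : (Fin P.m → A) →ₗ[A] (Fin P.m → A) := P.op ⟨a, ha⟩
  have hUpow : ∀ j z, (U ^ j) (P.sec z) = P.sec ((u ^ j) z) := by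
    intro j
    induction j with
    | zero => intro z; rfl
    | succ j ih =>
      intro z
      rw [pow_succ', pow_succ', Module.End.mul_apply, Module.End.mul_apply, ih]
      show P.sec (u (P.pr (P.sec _))) = _
      rw [P.pr_sec]
  have hcoeff : ∀ p : PrimeSpectrum A, ∀ i < P.m, algebraMap A p.asIdeal.ResidueField (U.charpoly.coeff i) = 0 := by
    intro p i hi
    haveI := (hH.2 p).1
    obtain ⟨n, hn'⟩ := LieAlgebra.nilpotent_ad_of_nilpotent_algebra p.asIdeal.ResidueField (p.asIdeal.ResidueField ⊗[A] H)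
    have hX : (ad p.asIdeal.ResidueField (p.asIdeal.ResidueField ⊗[A] H)
        ((1 : p.asIdeal.ResidueField) ⊗ₜ[A] (⟨a, ha⟩ : H))).charpoly =
        Polynomial.X ^ finrank p.asIdeal.ResidueField (p.asIdeal.ResidueField ⊗[A] H) :=
      (LinearMap.charpoly_eq_X_pow_iff _).2 fun z => ⟨n, by rw [hn']; rfl⟩
    rw [← Polynomial.coeff_map, map_charpoly_op, hX, ← pow_add, Nat.sub_add_cancel (finrank_le P _),
      Polynomial.coeff_X_pow, if_neg (by omega)]
  obtain ⟨n, hn⟩ : IsNilpotent (U ^ P.m) := by
    rcases subsingleton_or_nontrivial A with hA | hA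
    · haveI := Module.subsingleton A (Fin P.m → A)
      exact ⟨1, Subsingleton.elim _ _⟩
    have hdeg : U.charpoly.natDegree = P.m := by
      rw [LinearMap.charpoly_natDegree, Module.finrank_fin_fun]
    have h0 := LinearMap.aeval_self_charpoly U
    rw [Polynomial.aeval_eq_sum_range, hdeg, Finset.sum_range_succ] at h0
    have hlead : U.charpoly.coeff P.m = 1 := by
      exact (congrArg U.charpoly.coeff hdeg).symm.trans (LinearMap.charpoly_monic U).coeff_natDegree
    rw [hlead, one_smul, add_eq_zero_iff_neg_eq] at h0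
    rw [← h0]
    refine IsNilpotent.neg ?_
    have hterm : ∀ i ∈ Finset.range P.m, IsNilpotent (U.charpoly.coeff i • U ^ i) := fun i hi => by
      have hmem : U.charpoly.coeff i ∈ nilradical A := by
        rw [nilradical_eq_sInf, Ideal.mem_sInf]
        intro q hq
        haveI : q.IsPrime := hq
        exact (Ideal.algebraMap_residueField_eq_zero (I := q)).1 (hcoeff ⟨q, hq⟩ i (Finset.mem_range.1 hi))
      obtain ⟨k, hk⟩ := mem_nilradical.1 hmem
      exact ⟨k, by rw [smul_pow, hk, zero_smul]⟩
    refine Commute.isNilpotent_sum hterm fun i j _ _ => ?_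
    exact ((Commute.pow_pow_self U i j).smul_left _).smul_right _
  refine (LieSubalgebra.mem_engel_iff A a y).2 ⟨P.m * n, ?_⟩
  have h := hUpow (P.m * n) ⟨y, hy⟩
  rw [pow_mul, hn, LinearMap.zero_apply] at h
  have h2 := congrArg P.pr h.symm
  rw [P.pr_sec, map_zero] at h2
  have h3 : ∀ j, ((u ^ j) ⟨y, hy⟩ : H) = ((ad A L a ^ j) y : L) := by
    intro j
    induction j with
    | zero => rfl
    | succ j ih =>
      rw [pow_succ', pow_succ', Module.End.mul_apply, Module.End.mul_apply, ← ih]
      rfl
  rw [← h3, h2]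
  rfl

/-- Surjectivity on fibres over `D(f)` gives injectivity up to powers of `f`. -/
theorem exists_pow_smul_eq_zero {Q : Type u} [AddCommGroup Q] [Module A Q] [Module.Finite A Q] (v : Q →ₗ[A] Q) (f : A)
    (hv : ∀ p : PrimeSpectrum A, f ∉ p.asIdeal → Function.Surjective (v.baseChange p.asIdeal.ResidueField))
    {y : Q} (hy : v y = 0) : ∃ n : ℕ, f ^ n • y = 0 := by
  obtain ⟨N, hN⟩ : ∃ N : ℕ, ∀ z : Q, f ^ N • z ∈ LinearMap.range v := by
    have hrad : f ∈ (Module.annihilator A (Q ⧸ LinearMap.range v)).radical := by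
      rw [Ideal.radical_eq_sInf, Ideal.mem_sInf]
      rintro q ⟨hle, hq⟩
      by_contra hf
      have hmem : (⟨q, hq⟩ : PrimeSpectrum A) ∈ Module.support A (Q ⧸ LinearMap.range v) := by
        rw [Module.support_eq_zeroLocus]; exact hle
      rw [Module.mem_support_iff_nontrivial_residueField_tensorProduct] at hmem
      haveI := hmem
      refine not_subsingleton (q.ResidueField ⊗[A] (Q ⧸ LinearMap.range v)) ⟨fun x y => ?_⟩
      suffices h : ∀ x, x = (0 : q.ResidueField ⊗[A] (Q ⧸ LinearMap.range v)) by rw [h x, h y]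
      intro x
      obtain ⟨z, rfl⟩ := LinearMap.lTensor_surjective q.ResidueField (Submodule.mkQ_surjective _) x
      obtain ⟨w, rfl⟩ := hv ⟨q, hq⟩ hf z
      rw [LinearMap.baseChange_eq_ltensor, ← LinearMap.lTensor_comp_apply,
        show (LinearMap.range v).mkQ ∘ₗ v = 0 from LinearMap.range_mkQ_comp v, LinearMap.lTensor_zero,
        LinearMap.zero_apply]
    obtain ⟨N, hN⟩ := hrad
    exact ⟨N, fun z => (Submodule.Quotient.mk_eq_zero _).1
      (Module.mem_annihilator.1 hN (Submodule.Quotient.mk z))⟩
  let S := Submonoid.powers f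
  let vS := (LocalizedModule.map S v)
  have hsurj : Function.Surjective vS := by
    intro z
    induction z using LocalizedModule.induction_on with
    | h m s =>
      obtain ⟨w, hw⟩ := hN m
      refine ⟨LocalizedModule.mk w ((⟨f ^ N, N, rfl⟩ : Submonoid.powers f) * s), ?_⟩
      rw [LocalizedModule.map_mk, hw]
      exact LocalizedModule.mk_cancel_common_left (⟨f ^ N, N, rfl⟩ : Submonoid.powers f) s m
  haveI : Module.Finite (Localization S) (LocalizedModule S Q) :=
    Module.Finite.of_isLocalizedModule S (Rₚ := Localization S) (LocalizedModule.mkLinearMap S Q)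
  have hinj := OrzechProperty.injective_of_surjective_endomorphism _ hsurj
  have h0 : LocalizedModule.mk y (1 : S) = 0 := hinj (by
    rw [LocalizedModule.map_mk, hy, LocalizedModule.zero_mk, map_zero])
  rw [← LocalizedModule.zero_mk (1 : S), LocalizedModule.mk_eq] at h0
  obtain ⟨⟨_, n, rfl⟩, hc⟩ := h0
  exact ⟨n, by simpa [Submonoid.smul_def] using hc⟩

theorem ad_stable {a : L} (ha : a ∈ H) : H.toSubmodule ≤ H.toSubmodule.comap (ad A L a) :=
  fun _ hx => H.lie_mem ha hx

/-- The endomorphism of the quotient induced by `ad a`. -/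
def quotAd {a : L} (ha : a ∈ H) : (L ⧸ H.toSubmodule) →ₗ[A] (L ⧸ H.toSubmodule) :=
  H.toSubmodule.mapQ H.toSubmodule (ad A L a) (ad_stable H ha)

theorem baseChange_ad (a : L) : ad K (K ⊗[A] L) ((1 : K) ⊗ₜ[A] a) = (ad A L a).baseChange K := by
  refine LinearMap.ext fun w => ?_
  induction w using TensorProduct.induction_on with
  | zero => simp
  | add x y hx hy => rw [map_add, map_add, hx, hy]
  | tmul d y => simp [LieAlgebra.ExtendScalars.bracket_tmul]

theorem quotAd_baseChange_surjective (hH : IsCartanRel H) {a : L} (ha : a ∈ H) (p : PrimeSpectrum A)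
    (hreg : IsRegular p.asIdeal.ResidueField ((1 : p.asIdeal.ResidueField) ⊗ₜ[A] a)) :
    Function.Surjective ((quotAd H ha).baseChange p.asIdeal.ResidueField) := by
  refine LinearMap.injective_iff_surjective.1 ((injective_iff_map_eq_zero _).2 fun z hz => ?_)
  obtain ⟨z, rfl⟩ := LinearMap.lTensor_surjective p.asIdeal.ResidueField (Submodule.mkQ_surjective _) z
  have heq := fibre_eq_engel H hH p (Submodule.tmul_mem_baseChange_of_mem 1 ha) hreg
  have hc : (quotAd H ha).baseChange p.asIdeal.ResidueField (H.toSubmodule.mkQ.baseChange _ z) =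
      H.toSubmodule.mkQ.baseChange _ (⁅(1 : p.asIdeal.ResidueField) ⊗ₜ[A] a, z⁆) := by
    rw [← ad_apply (R := p.asIdeal.ResidueField), baseChange_ad, ← LinearMap.comp_apply, ← LinearMap.comp_apply,
      ← LinearMap.baseChange_comp, ← LinearMap.baseChange_comp]
    rfl
  rw [← LinearMap.baseChange_eq_ltensor] at hz ⊢
  rw [hc, ← mem_baseChange_iff] at hz
  rw [← mem_baseChange_iff]
  change z ∈ fibreSubmodule p H
  change _ ∈ fibreSubmodule p H at hz
  rw [heq] at hz ⊢
  obtain ⟨n, hn⟩ := (LieSubalgebra.mem_engel_iff _ _ _).1 hz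
  exact (LieSubalgebra.mem_engel_iff _ _ _).2 ⟨n + 1, by rw [pow_succ, Module.End.mul_apply, ad_apply]; exact hn⟩

/-- A relative Cartan subalgebra agrees with the Engel subalgebra of a section regular over `D(f)`, over `D(f)`. -/
theorem exists_pow_smul_mem (hH : IsCartanRel H) {a : L} (ha : a ∈ H) (f : A)
    (hreg : ∀ p : PrimeSpectrum A, f ∉ p.asIdeal →
      IsRegular p.asIdeal.ResidueField ((1 : p.asIdeal.ResidueField) ⊗ₜ[A] a))
    {y : L} (hy : y ∈ LieSubalgebra.engel A a) : ∃ n : ℕ, f ^ n • y ∈ H := by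
  have key : ∀ q : L ⧸ H.toSubmodule, ∀ n, (quotAd H ha ^ n) q = 0 → ∃ e : ℕ, f ^ e • q = 0 := by
    intro q n
    induction n generalizing q with
    | zero => exact fun h => ⟨0, by simpa using h⟩
    | succ n ih =>
      intro h
      rw [pow_succ, Module.End.mul_apply] at h
      obtain ⟨e, he⟩ := ih _ h
      rw [← map_smul] at he
      obtain ⟨e', he'⟩ := exists_pow_smul_eq_zero (quotAd H ha) f
        (fun p hp => quotAd_baseChange_surjective H hH ha p (hreg p hp)) he
      exact ⟨e' + e, by rw [pow_add, mul_smul, he']⟩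
  obtain ⟨n, hn⟩ := (LieSubalgebra.mem_engel_iff A a y).1 hy
  have hq : ∀ j, (quotAd H ha ^ j) (Submodule.Quotient.mk y) = Submodule.Quotient.mk ((ad A L a ^ j) y) := by
    intro j
    induction j with
    | zero => rfl
    | succ j ih => rw [pow_succ', pow_succ', Module.End.mul_apply, Module.End.mul_apply, ih]; rfl
  obtain ⟨e, he⟩ := key (Submodule.Quotient.mk y) n (by rw [hq, hn]; rfl)
  exact ⟨e, (Submodule.Quotient.mk_eq_zero _).1 (by rw [Submodule.Quotient.mk_smul]; exact he)⟩

theorem eq_engel (hH : IsCartanRel H) [Module.Projective A L] {a : L} (ha : a ∈ H) (hreg : IsQuasiRegular A L a) :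
    H = LieSubalgebra.engel A a := by
  refine le_antisymm (fun y hy => mem_engel_of_mem H hH ha hy) fun y hy => ?_
  obtain ⟨n, hn⟩ := exists_pow_smul_mem H hH ha 1 (fun p _ => hreg p) hy
  rwa [one_pow, one_smul] at hn

theorem surjective_quotAd (hH : IsCartanRel H) {a : L} (ha : a ∈ H) (hreg : IsQuasiRegular A L a) :
    Function.Surjective (quotAd H ha) := by
  haveI : Subsingleton ((L ⧸ H.toSubmodule) ⧸ LinearMap.range (quotAd H ha)) := by
    rw [← Module.support_eq_empty_iff (R := A), Set.eq_empty_iff_forall_notMem]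
    intro p hp
    rw [Module.mem_support_iff_nontrivial_residueField_tensorProduct] at hp
    haveI := hp
    refine not_subsingleton (p.asIdeal.ResidueField ⊗[A] ((L ⧸ H.toSubmodule) ⧸ LinearMap.range (quotAd H ha))) ⟨fun x y => ?_⟩
    suffices h : ∀ x, x = (0 : p.asIdeal.ResidueField ⊗[A] ((L ⧸ H.toSubmodule) ⧸ LinearMap.range (quotAd H ha))) by
      rw [h x, h y]
    intro x
    obtain ⟨z, rfl⟩ := LinearMap.lTensor_surjective p.asIdeal.ResidueField (Submodule.mkQ_surjective _) x
    obtain ⟨w, rfl⟩ := quotAd_baseChange_surjective H hH ha p (hreg p) z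
    rw [LinearMap.baseChange_eq_ltensor, ← LinearMap.lTensor_comp_apply,
      show (LinearMap.range (quotAd H ha)).mkQ ∘ₗ quotAd H ha = 0 from LinearMap.range_mkQ_comp _,
      LinearMap.lTensor_zero, LinearMap.zero_apply]
  exact fun y => LinearMap.mem_range.1 ((Submodule.Quotient.mk_eq_zero _).1 (Subsingleton.elim _ 0))

/-- The criterion: an Engel subalgebra of a quasi-regular element with bijective `ad` on the
projective quotient is a relative Cartan subalgebra. -/
theorem isCartanRel_engel {a : L} (hreg : IsQuasiRegular A L a)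
    (hproj : Module.Projective A (L ⧸ (LieSubalgebra.engel A a).toSubmodule))
    (hinj : ∀ z : L, ⁅a, z⁆ ∈ LieSubalgebra.engel A a → z ∈ LieSubalgebra.engel A a)
    (hsurj : ∀ y : L, ∃ z : L, ⁅a, z⁆ - y ∈ LieSubalgebra.engel A a) :
    IsCartanRel (LieSubalgebra.engel A a) := by
  classical
  let E := LieSubalgebra.engel A a
  have ha : a ∈ E := LieSubalgebra.self_mem_engel A a
  have hb : Function.Bijective (quotAd E ha) := by
    refine ⟨(injective_iff_map_eq_zero _).2 fun q hq => ?_, fun q => ?_⟩
    · obtain ⟨z, rfl⟩ := Submodule.Quotient.mk_surjective _ q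
      exact (Submodule.Quotient.mk_eq_zero _).2 (hinj z ((Submodule.Quotient.mk_eq_zero _).1 hq))
    · obtain ⟨y, rfl⟩ := Submodule.Quotient.mk_surjective _ q
      obtain ⟨z, hz⟩ := hsurj y
      exact ⟨Submodule.Quotient.mk z, (Submodule.Quotient.eq _).2 hz⟩
  refine ⟨hproj, fun p => ?_⟩
  let k := p.asIdeal.ResidueField
  let x : k ⊗[A] L := (1 : k) ⊗ₜ[A] a
  have hfib : fibreSubmodule p E = (LieSubalgebra.engel k x).toSubmodule := by
    refine le_antisymm ?_ fun z hz => ?_
    · rintro _ ⟨w, rfl⟩
      induction w using TensorProduct.induction_on with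
      | zero => rw [map_zero]; exact zero_mem _
      | add s t hs ht => rw [map_add]; exact add_mem hs ht
      | tmul c y =>
        obtain ⟨n, hn⟩ := (LieSubalgebra.mem_engel_iff A a (y : L)).1 y.2
        have h1 : (1 : k) ⊗ₜ[A] (y : L) ∈ (LieSubalgebra.engel k x).toSubmodule :=
          (LieSubalgebra.mem_engel_iff k _ _).2 ⟨n, by rw [ad_pow_one_tmul, hn, TensorProduct.tmul_zero]⟩
        have h2 := Submodule.smul_mem _ c h1
        rwa [TensorProduct.smul_tmul', smul_eq_mul, mul_one] at h2
    · obtain ⟨n, hn⟩ := (LieSubalgebra.mem_engel_iff _ _ _).1 hz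
      refine (mem_baseChange_iff k E z).2 ?_
      have hbk : Function.Injective ((quotAd E ha).baseChange k) :=
        (TensorProduct.AlgebraTensorModule.congr (LinearEquiv.refl k k) (LinearEquiv.ofBijective _ hb)).injective
      have hc : ∀ j w, (((quotAd E ha).baseChange k) ^ j) (E.toSubmodule.mkQ.baseChange k w) =
          E.toSubmodule.mkQ.baseChange k ((ad k (k ⊗[A] L) x ^ j) w) := by
        intro j
        induction j with
        | zero => intro w; rfl
        | succ j ih =>
          intro w
          rw [pow_succ', pow_succ', Module.End.mul_apply, Module.End.mul_apply, ih, baseChange_ad,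
            ← LinearMap.comp_apply ((quotAd E ha).baseChange k), ← LinearMap.comp_apply (E.toSubmodule.mkQ.baseChange k),
            ← LinearMap.baseChange_comp, ← LinearMap.baseChange_comp]
          rfl
      have h0 := hc n z
      rw [hn, map_zero] at h0
      have hinjn : Function.Injective (((quotAd E ha).baseChange k) ^ n) := by
        rw [Module.End.coe_pow]; exact hbk.iterate n
      exact hinjn (h0.trans (map_zero _).symm)
  refine ⟨?_, fun z hz => ?_, ?_⟩
  · haveI := isNilpotent_engel (hreg p)
    have hmem : ∀ w, fibreHom k E w ∈ LieSubalgebra.engel k x := fun w => by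
      show _ ∈ (LieSubalgebra.engel k x).toSubmodule
      rw [← hfib]
      exact ⟨w, rfl⟩
    let g : (k ⊗[A] E) →ₗ⁅k⁆ LieSubalgebra.engel k x :=
      { toFun := fun w => ⟨fibreHom k E w, hmem w⟩
        map_add' := fun v w => Subtype.ext (map_add _ v w)
        map_smul' := fun c w => Subtype.ext (map_smul _ c w)
        map_lie' := fun {v w} => Subtype.ext ((fibreHom k E).map_lie v w) }
    haveI := hproj
    refine Function.Injective.lieAlgebra_isNilpotent (f := g) fun v w h => ?_
    exact fibreHom_injective k E (congrArg Subtype.val h)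
  · rw [hfib] at hz ⊢
    have h1 := hz x (LieSubalgebra.self_mem_engel k x)
    rw [← lie_skew, neg_mem_iff] at h1
    obtain ⟨n, hn⟩ := (LieSubalgebra.mem_engel_iff k _ _).1 h1
    exact (LieSubalgebra.mem_engel_iff k _ _).2 ⟨n + 1, by rw [pow_succ, Module.End.mul_apply, ad_apply]; exact hn⟩
  · rw [hfib]
    exact (isRegular_iff_finrank_engel_eq_rank k x).1 (hreg p)

theorem exists_smul_eq_one_tmul (p : PrimeSpectrum A) (H : Submodule A L) {z : p.asIdeal.ResidueField ⊗[A] L}
    (hz : z ∈ H.baseChange p.asIdeal.ResidueField) :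
    ∃ (a : L) (s : A), a ∈ H ∧ s ∉ p.asIdeal ∧
      algebraMap A p.asIdeal.ResidueField s • z = (1 : p.asIdeal.ResidueField) ⊗ₜ[A] a := by
  obtain ⟨w, rfl⟩ := hz
  induction w using TensorProduct.induction_on with
  | zero => exact ⟨0, 1, zero_mem _, (Ideal.ne_top_iff_one _).1 p.isPrime.ne_top, by simp⟩
  | tmul c m =>
    obtain ⟨r, s, hs, rfl⟩ := IsFractionRing.div_surjective (A := A ⧸ p.asIdeal) c
    obtain ⟨r, rfl⟩ := Ideal.Quotient.mk_surjective r
    obtain ⟨s, rfl⟩ := Ideal.Quotient.mk_surjective s
    have hsp : s ∉ p.asIdeal := fun h => nonZeroDivisors.ne_zero hs (Ideal.Quotient.eq_zero_iff_mem.2 h)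
    refine ⟨r • (m : L), s, Submodule.smul_mem _ _ m.2, hsp, ?_⟩
    have hs0 : algebraMap A p.asIdeal.ResidueField s ≠ 0 := fun h => hsp (Ideal.algebraMap_residueField_eq_zero.1 h)
    rw [LinearMap.baseChange_tmul, Submodule.subtype_apply, TensorProduct.smul_tmul', TensorProduct.tmul_smul,
      TensorProduct.smul_tmul', Algebra.smul_def r, mul_one, smul_eq_mul]
    congr 1
    rw [show algebraMap (A ⧸ p.asIdeal) p.asIdeal.ResidueField (Ideal.Quotient.mk _ r) =
        algebraMap A p.asIdeal.ResidueField r from rfl,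
      show algebraMap (A ⧸ p.asIdeal) p.asIdeal.ResidueField (Ideal.Quotient.mk _ s) =
        algebraMap A p.asIdeal.ResidueField s from rfl, mul_div_cancel₀ _ hs0]
  | add x y hx hy =>
    obtain ⟨a, s, ha, hs, hax⟩ := hx
    obtain ⟨b, t, hb, ht, hby⟩ := hy
    refine ⟨t • a + s • b, s * t, add_mem (Submodule.smul_mem _ _ ha) (Submodule.smul_mem _ _ hb),
      p.isPrime.mul_notMem hs ht, ?_⟩
    rw [map_add, smul_add, TensorProduct.tmul_add, TensorProduct.tmul_smul, TensorProduct.tmul_smul, ← hax, ← hby,
      ← algebraMap_smul p.asIdeal.ResidueField t, ← algebraMap_smul p.asIdeal.ResidueField s, smul_smul, smul_smul,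
      map_mul, mul_comm (algebraMap A _ t)]

/-- A relative Cartan subalgebra contains a section regular at a prime with infinite residue field. -/
theorem exists_mem_isRegular (hH : IsCartanRel H) (p : PrimeSpectrum A) [Infinite p.asIdeal.ResidueField] :
    ∃ a ∈ H, IsRegular p.asIdeal.ResidueField ((1 : p.asIdeal.ResidueField) ⊗ₜ[A] a) := by
  let k := p.asIdeal.ResidueField
  obtain ⟨hn, hnorm, hrk⟩ := hH.2 p
  haveI := hH.1
  let U : LieSubalgebra k (k ⊗[A] L) := (fibreHom k H).range
  have hUs : U.toSubmodule = fibreSubmodule p H := rfl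
  classical
  obtain ⟨x, hxU, hxmin⟩ : ∃ x ∈ U, ∀ y ∈ U, finrank k (LieSubalgebra.engel k x) ≤ finrank k (LieSubalgebra.engel k y) := by
    have hne : ∃ d, ∃ y ∈ U, finrank k (LieSubalgebra.engel k y) = d := ⟨_, 0, zero_mem U, rfl⟩
    obtain ⟨x, hx, hd⟩ := Nat.find_spec hne
    exact ⟨x, hx, fun y hy => hd.trans_le (Nat.find_min' hne ⟨y, hy, rfl⟩)⟩
  have hUle : ∀ {y}, y ∈ U → U ≤ LieSubalgebra.engel k y := fun {y} hy z hz => fibre_le_engel k H hn hy hz
  have hcard : finrank k (k ⊗[A] L) ≤ Cardinal.mk k :=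
    Cardinal.natCast_le_aleph0.trans (Cardinal.infinite_iff.mp inferInstance)
  let Ex : {LieSubalgebra.engel k z | z ∈ U} := ⟨LieSubalgebra.engel k x, x, hxU, rfl⟩
  have hbot : IsBot Ex := by
    apply LieAlgebra.engel_isBot_of_isMin hcard U Ex (hUle hxU)
    rintro ⟨_, y, hy, rfl⟩ hyx
    suffices LieSubalgebra.engel k y = LieSubalgebra.engel k x from this.ge
    exact LieSubalgebra.toSubmodule_injective (Submodule.eq_of_le_of_finrank_le hyx (hxmin y hy))
  let E : LieSubmodule k U (k ⊗[A] L) :=
    { LieSubalgebra.engel k x with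
      lie_mem := by rintro ⟨u, hu⟩ y hy; exact (LieSubalgebra.engel k x).lie_mem (hUle hxU hu) hy }
  haveI hEnil : LieModule.IsNilpotent U E := by
    haveI : Module.Finite k E := inferInstanceAs (Module.Finite k (E : Submodule k (k ⊗[A] L)))
    rw [LieModule.isNilpotent_iff_forall' (R := k)]
    intro y
    rw [Module.End.isNilpotent_iff_of_finite]
    intro z
    have hle : LieSubalgebra.engel k x ≤ LieSubalgebra.engel k (y : k ⊗[A] L) :=
      hbot ⟨_, y, y.2, rfl⟩
    obtain ⟨n, hn'⟩ := (LieSubalgebra.mem_engel_iff k _ _).1 (hle z.2)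
    refine ⟨n, Subtype.ext ?_⟩
    rw [LieSubmodule.coe_toEnd_pow]
    exact hn'
  obtain ⟨j, hj⟩ := E.isNilpotent_iff_exists_self_le_ucs.1 hEnil
  have hU : U.toLieSubmodule.normalizer = U.toLieSubmodule := by
    refine le_antisymm (fun z hz => ?_) (LieSubmodule.le_normalizer _)
    refine hnorm z fun y hy => ?_
    have h1 : ⁅y, z⁆ ∈ fibreSubmodule p H := (LieSubmodule.mem_normalizer _ z).1 hz ⟨y, hy⟩
    rw [← lie_skew]
    exact neg_mem h1
  have hEU : E ≤ U.toLieSubmodule :=
    hj.trans (LieSubmodule.ucs_le_of_normalizer_eq_self hU j)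
  have heq : (LieSubalgebra.engel k x).toSubmodule = fibreSubmodule p H :=
    le_antisymm (fun z hz => hEU hz) (fun z hz => hUle hxU hz)
  have hreg : IsRegular k x := by
    rw [isRegular_iff_finrank_engel_eq_rank, ← hrk, ← heq]
    rfl
  obtain ⟨a, s, ha, hs, hax⟩ := exists_smul_eq_one_tmul p H.toSubmodule (z := x) hxU
  refine ⟨a, ha, ?_⟩
  rw [← hax]
  exact (isRegular_smul k (fun h => hs (Ideal.algebraMap_residueField_eq_zero.1 h)) x).2 hreg

end Cartan

end

end Groth.Agent.H20Cartan
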