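import Groth.Agent.H20Cartan.Criterion

/-!
Local constancy of the ranks of the fibres and openness of the regular locus.
-/

set_option autoImplicit false

universe u

open TensorProduct LieAlgebra Module SGA3t2b

namespace Groth.Agent.H20Cartan

noncomputable section

attribute [local instance 100] LieRing.ofAssociativeRing

variable {A : Type u} [CommRing A] {L : Type u} [LieRing L] [LieAlgebra A L]

theorem isLocallyConstant_finrank_fibre (A : Type u) [CommRing A] (M : Type u) [AddCommGroup M] [Module A M]
    [Module.Finite A M] [Module.Projective A M] :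
    IsLocallyConstant (fun p : PrimeSpectrum A => finrank p.asIdeal.ResidueField (p.asIdeal.ResidueField ⊗[A] M)) := by
  haveI := Module.finitePresentation_of_projective A M
  have h : (fun p : PrimeSpectrum A => finrank p.asIdeal.ResidueField (p.asIdeal.ResidueField ⊗[A] M)) =
      Module.rankAtStalk (R := A) M := funext fun p => (Module.rankAtStalk_eq p).symm
  rw [h]
  exact Module.isLocallyConstant_rankAtStalk

/-- The statement form of condition (C₀) in terms of local constancy. -/
theorem forall_exists_iff_isLocallyConstant {A : Type u} [CommRing A] {β : Type*} (r : PrimeSpectrum A → β) :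
    (∀ p : PrimeSpectrum A, ∃ f : A, f ∉ p.asIdeal ∧ ∀ q : PrimeSpectrum A, f ∉ q.asIdeal → r q = r p) ↔
      IsLocallyConstant r := by
  rw [IsLocallyConstant.iff_exists_open]
  refine ⟨fun h p => ?_, fun h p => ?_⟩
  · obtain ⟨f, hf, h⟩ := h p
    exact ⟨PrimeSpectrum.basicOpen f, (PrimeSpectrum.basicOpen f).isOpen, hf, fun q hq => h q hq⟩
  · obtain ⟨U, hU, hpU, h⟩ := h p
    obtain ⟨_, ⟨f, rfl⟩, hf, hfU⟩ := PrimeSpectrum.isTopologicalBasis_basic_opens.exists_subset_of_mem_open hpU hU
    exact ⟨f, hf, fun q hq => h q (hfU hq)⟩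

theorem isLocallyConstant_rank [Module.Finite A L] [Module.Projective A L] (H : LieSubalgebra A L)
    (hH : IsCartanRel H) :
    IsLocallyConstant (fun p : PrimeSpectrum A =>
      LieAlgebra.rank p.asIdeal.ResidueField (p.asIdeal.ResidueField ⊗[A] L)) := by
  haveI := hH.1
  haveI := finite_of_projQuot H
  haveI := projective_of_projQuot H
  have h : (fun p : PrimeSpectrum A => LieAlgebra.rank p.asIdeal.ResidueField (p.asIdeal.ResidueField ⊗[A] L)) =
      fun p : PrimeSpectrum A => finrank p.asIdeal.ResidueField (p.asIdeal.ResidueField ⊗[A] H) :=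
    funext fun p => (hH.2 p).2.2.symm.trans (finrank_baseChange_eq _ H)
  rw [h]
  exact isLocallyConstant_finrank_fibre A H

variable [Module.Finite A L] [Module.Projective A L]

theorem isLocallyConstant_deg (P : Pres A L)
    (hr : IsLocallyConstant (fun p : PrimeSpectrum A =>
      LieAlgebra.rank p.asIdeal.ResidueField (p.asIdeal.ResidueField ⊗[A] L))) :
    IsLocallyConstant (fun p : PrimeSpectrum A => P.deg p.asIdeal.ResidueField) :=
  hr.comp₂ (isLocallyConstant_finrank_fibre A L) fun r n => r + (P.m - n)

theorem isOpen_regular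
    (hr : IsLocallyConstant (fun p : PrimeSpectrum A =>
      LieAlgebra.rank p.asIdeal.ResidueField (p.asIdeal.ResidueField ⊗[A] L))) (a : L) :
    IsOpen {p : PrimeSpectrum A | IsRegular p.asIdeal.ResidueField ((1 : p.asIdeal.ResidueField) ⊗ₜ[A] a)} := by
  obtain ⟨P⟩ := exists_pres (A := A) (L := L)
  have hd := isLocallyConstant_deg P hr
  rw [show {p : PrimeSpectrum A | IsRegular p.asIdeal.ResidueField ((1 : p.asIdeal.ResidueField) ⊗ₜ[A] a)} =
      ⋃ d : ℕ, ((fun p : PrimeSpectrum A => P.deg p.asIdeal.ResidueField) ⁻¹' {d} ∩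
        PrimeSpectrum.basicOpen ((P.op a).charpoly.coeff d)) from ?_]
  · exact isOpen_iUnion fun d => (hd.isOpen_fiber d).inter (PrimeSpectrum.basicOpen _).isOpen
  · ext p
    rw [Set.mem_setOf_eq, isRegular_iff P, Ne, Ideal.algebraMap_residueField_eq_zero]
    simp only [Set.mem_iUnion, Set.mem_inter_iff, Set.mem_preimage, Set.mem_singleton_iff, SetLike.mem_coe,
      PrimeSpectrum.mem_basicOpen]
    exact ⟨fun h => ⟨_, rfl, h⟩, fun ⟨d, hd, h⟩ => hd ▸ h⟩

/-- Regularity of a section at a prime of an algebra. -/
theorem isRegular_residue_iff {S : Type u} [CommRing S] [Algebra A S] (q : PrimeSpectrum S) (a : L) :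
    IsRegular q.asIdeal.ResidueField ((1 : q.asIdeal.ResidueField) ⊗ₜ[A] a) ↔
      IsRegular (PrimeSpectrum.comap (algebraMap A S) q).asIdeal.ResidueField
        ((1 : (PrimeSpectrum.comap (algebraMap A S) q).asIdeal.ResidueField) ⊗ₜ[A] a) := by
  obtain ⟨P⟩ := exists_pres (A := A) (L := L)
  let k := (q.asIdeal.comap (algebraMap A S)).ResidueField
  let K := q.asIdeal.ResidueField
  letI : Algebra k K := (Ideal.ResidueField.map (q.asIdeal.comap (algebraMap A S)) q.asIdeal (algebraMap A S) rfl).toAlgebra
  haveI : IsScalarTower A k K := IsScalarTower.of_algebraMap_eq fun x => by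
    rw [RingHom.algebraMap_toAlgebra, Ideal.ResidueField.map_algebraMap, ← IsScalarTower.algebraMap_apply]
  exact isRegular_tower_iff P k K a

theorem rank_residue_eq {S : Type u} [CommRing S] [Algebra A S] (q : PrimeSpectrum S) :
    LieAlgebra.rank q.asIdeal.ResidueField (q.asIdeal.ResidueField ⊗[A] L) =
      LieAlgebra.rank (PrimeSpectrum.comap (algebraMap A S) q).asIdeal.ResidueField
        ((PrimeSpectrum.comap (algebraMap A S) q).asIdeal.ResidueField ⊗[A] L) := by
  rw [← rank_eq_of_equiv (cancelLie A S q.asIdeal.ResidueField L)]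
  exact (fibre_baseChange (A := A) q (0 : L)).1

end

end Groth.Agent.H20Cartan
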