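import Groth.Agent.H20Cartan.Rank

/-!
A Lie algebra, finitely generated projective over a ring: the characteristic polynomial of `ad`
through a presentation as a direct summand of a free module, and the ranks of the fibres.
-/

set_option autoImplicit false

universe u

open TensorProduct LieAlgebra Module

namespace Groth.Agent.H20Cartan

noncomputable section

attribute [local instance 100] LieRing.ofAssociativeRing

/-- The cancellation isomorphism of base changes of Lie algebras. -/
def cancelLie (A S T : Type u) [CommRing A] [CommRing S] [CommRing T] [Algebra A S] [Algebra A T] [Algebra S T]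
    [IsScalarTower A S T] (L : Type u) [LieRing L] [LieAlgebra A L] :
    (T ⊗[S] (S ⊗[A] L)) ≃ₗ⁅T⁆ (T ⊗[A] L) :=
  { TensorProduct.AlgebraTensorModule.cancelBaseChange A S T T L with
    map_lie' := by
      have h : ∀ x y, TensorProduct.AlgebraTensorModule.cancelBaseChange A S T T L (ad T (T ⊗[S] (S ⊗[A] L)) x y) =
          ad T (T ⊗[A] L) (TensorProduct.AlgebraTensorModule.cancelBaseChange A S T T L x)
            (TensorProduct.AlgebraTensorModule.cancelBaseChange A S T T L y) := by
        intro x y
        induction x using TensorProduct.induction_on with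
        | zero => simp
        | add p q hp hq => simp only [map_add, LinearMap.add_apply, hp, hq]
        | tmul c x =>
          induction y using TensorProduct.induction_on with
          | zero => simp only [map_zero]
          | add p q hp hq => simp only [map_add, hp, hq]
          | tmul d y =>
            induction x using TensorProduct.induction_on with
            | zero => simp
            | add p q hp hq => simp only [TensorProduct.tmul_add, map_add, LinearMap.add_apply, hp, hq]
            | tmul s l =>
              induction y using TensorProduct.induction_on with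
              | zero => simp only [TensorProduct.tmul_zero, map_zero]
              | add p q hp hq => simp only [TensorProduct.tmul_add, map_add, hp, hq]
              | tmul s' l' =>
                simp only [LieAlgebra.ad_apply, LieAlgebra.ExtendScalars.bracket_tmul,
                  TensorProduct.AlgebraTensorModule.cancelBaseChange_tmul]
                rw [smul_mul_smul_comm]
      intro x y
      exact h x y }

theorem cancelLie_one_tmul (A S T : Type u) [CommRing A] [CommRing S] [CommRing T] [Algebra A S] [Algebra A T]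
    [Algebra S T] [IsScalarTower A S T] (L : Type u) [LieRing L] [LieAlgebra A L] (s : S) (a : L) :
    cancelLie A S T L ((1 : T) ⊗ₜ[S] (s ⊗ₜ[A] a)) = algebraMap S T s ⊗ₜ[A] a := by
  show TensorProduct.AlgebraTensorModule.cancelBaseChange A S T T L _ = _
  rw [TensorProduct.AlgebraTensorModule.cancelBaseChange_tmul, Algebra.smul_def, mul_one]

theorem charpoly_comp_comm {K V W : Type u} [Field K] [AddCommGroup V] [Module K V] [Module.Finite K V]
    [AddCommGroup W] [Module K W] [Module.Finite K W] (f : W →ₗ[K] V) (g : V →ₗ[K] W) :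
    Polynomial.X ^ finrank K W * (f ∘ₗ g).charpoly = Polynomial.X ^ finrank K V * (g ∘ₗ f).charpoly := by
  classical
  let b := finBasis K V
  let c := finBasis K W
  have h := Matrix.charpoly_mul_comm' (LinearMap.toMatrix c b f) (LinearMap.toMatrix b c g)
  rw [← LinearMap.toMatrix_comp b c b, ← LinearMap.toMatrix_comp c b c, LinearMap.charpoly_toMatrix,
    LinearMap.charpoly_toMatrix, Fintype.card_fin, Fintype.card_fin] at h
  exact h

variable {A : Type u} [CommRing A] {L : Type u} [LieRing L] [LieAlgebra A L]

/-- A presentation of a module as a direct summand of a free module. -/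
structure Pres (A : Type u) [CommRing A] (L : Type u) [AddCommGroup L] [Module A L] where
  /-- the rank of the free module -/
  m : ℕ
  /-- the projection -/
  pr : (Fin m → A) →ₗ[A] L
  /-- the section -/
  sec : L →ₗ[A] (Fin m → A)
  pr_sec : ∀ x, pr (sec x) = x

theorem exists_pres [Module.Finite A L] [Module.Projective A L] : Nonempty (Pres A L) := by
  obtain ⟨m, pr, sec, -, -, h⟩ := Module.Finite.exists_comp_eq_id_of_projective A L
  exact ⟨⟨m, pr, sec, fun x => LinearMap.congr_fun h x⟩⟩

variable (P : Pres A L)

/-- The operator on the free module induced by `ad a`. -/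
def Pres.op (a : L) : (Fin P.m → A) →ₗ[A] (Fin P.m → A) := P.sec ∘ₗ ad A L a ∘ₗ P.pr

/-- The family of operators. -/
def Pres.fam : (Fin P.m → A) →ₗ[A] Module.End A (Fin P.m → A) :=
  LinearMap.lcomp A (Fin P.m → A) P.pr ∘ₗ LinearMap.llcomp A L L (Fin P.m → A) P.sec ∘ₗ
    (ad A L).toLinearMap ∘ₗ P.pr

/-- The coefficient polynomials of the family. -/
def Pres.coeffPoly (i : ℕ) : MvPolynomial (Fin P.m) A :=
  (LinearMap.polyCharpoly P.fam (Pi.basisFun A (Fin P.m))).coeff i

section Field

variable (K : Type u) [Field K] [Algebra A K] [Module.Finite A L]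

theorem finrank_baseChange_pi : finrank K (K ⊗[A] (Fin P.m → A)) = P.m := by
  rw [Module.finrank_eq_card_basis (Algebra.TensorProduct.basis K (Pi.basisFun A (Fin P.m))), Fintype.card_fin]

theorem finrank_le : finrank K (K ⊗[A] L) ≤ P.m := by
  have hsurj : Function.Surjective (P.pr.baseChange K) := fun z => ⟨P.sec.baseChange K z, by
    rw [← LinearMap.comp_apply, ← LinearMap.baseChange_comp,
      show P.pr ∘ₗ P.sec = LinearMap.id from LinearMap.ext P.pr_sec, LinearMap.baseChange_id, LinearMap.id_apply]⟩
  have h := LinearMap.finrank_le_finrank_of_surjective hsurj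
  rwa [finrank_baseChange_pi] at h

theorem charpoly_conj_ad (x : K ⊗[A] L) :
    ((P.sec.baseChange K) ∘ₗ ad K (K ⊗[A] L) x ∘ₗ (P.pr.baseChange K)).charpoly =
      Polynomial.X ^ (P.m - finrank K (K ⊗[A] L)) * (ad K (K ⊗[A] L) x).charpoly := by
  have h := charpoly_comp_comm (P.sec.baseChange K) (ad K (K ⊗[A] L) x ∘ₗ P.pr.baseChange K)
  have hid : (P.pr.baseChange K) ∘ₗ (P.sec.baseChange K) = LinearMap.id := by
    rw [← LinearMap.baseChange_comp, show P.pr ∘ₗ P.sec = LinearMap.id from LinearMap.ext P.pr_sec,
      LinearMap.baseChange_id]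
  have e : (Polynomial.X : Polynomial K) ^ P.m =
      Polynomial.X ^ finrank K (K ⊗[A] L) * Polynomial.X ^ (P.m - finrank K (K ⊗[A] L)) := by
    rw [← pow_add, Nat.add_sub_cancel' (finrank_le P K)]
  rw [LinearMap.comp_assoc, hid, LinearMap.comp_id, finrank_baseChange_pi, e, mul_assoc] at h
  exact mul_left_cancel₀ (pow_ne_zero _ Polynomial.X_ne_zero) h

theorem fam_baseChange (z : K ⊗[A] (Fin P.m → A)) :
    LinearMap.tensorProduct A K (Fin P.m → A) (Fin P.m → A) (P.fam.baseChange K z) =
      (P.sec.baseChange K) ∘ₗ ad K (K ⊗[A] L) (P.pr.baseChange K z) ∘ₗ (P.pr.baseChange K) := by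
  induction z using TensorProduct.induction_on with
  | zero => simp
  | add x y hx hy => simp only [map_add, hx, hy, LinearMap.add_comp, LinearMap.comp_add]
  | tmul c x =>
    refine LinearMap.ext fun w => ?_
    induction w using TensorProduct.induction_on with
    | zero => simp
    | add x y hx hy => simp only [map_add, hx, hy]
    | tmul d y =>
      simp [LinearMap.tensorProduct, Pres.fam, LieAlgebra.ExtendScalars.bracket_tmul, TensorProduct.smul_tmul']

theorem aeval_coeffPoly (y : Fin P.m → K) (i : ℕ) :
    MvPolynomial.aeval y (P.coeffPoly i) =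
      (Polynomial.X ^ (P.m - finrank K (K ⊗[A] L)) *
        (ad K (K ⊗[A] L) (P.pr.baseChange K ((Algebra.TensorProduct.basis K (Pi.basisFun A (Fin P.m))).repr.symm
          (Finsupp.equivFunOnFinite.symm y)))).charpoly).coeff i := by
  rw [← charpoly_conj_ad, ← fam_baseChange]
  have h := LinearMap.polyCharpolyAux_map_aeval P.fam (Pi.basisFun A (Fin P.m))
    (Module.Free.chooseBasis A (Fin P.m → A)) K y
  have h' := congrArg (fun p => Polynomial.coeff p i) h
  simp only [Polynomial.coeff_map] at h'
  exact h'

/-- The degree detecting regularity. -/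
def Pres.deg : ℕ := LieAlgebra.rank K (K ⊗[A] L) + (P.m - finrank K (K ⊗[A] L))

theorem finrank_tower (K₂ : Type u) [Field K₂] [Algebra A K₂] [Algebra K K₂] [IsScalarTower A K K₂] :
    finrank K₂ (K₂ ⊗[A] L) = finrank K (K ⊗[A] L) := by
  rw [← (TensorProduct.AlgebraTensorModule.cancelBaseChange A K K₂ K₂ L).finrank_eq, finrank_baseChange]

theorem rank_tower (K₂ : Type u) [Field K₂] [Algebra A K₂] [Algebra K K₂] [IsScalarTower A K K₂] :
    LieAlgebra.rank K₂ (K₂ ⊗[A] L) = LieAlgebra.rank K (K ⊗[A] L) := by
  rw [← rank_eq_of_equiv (cancelLie A K K₂ L), rank_baseChange]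

theorem coeffPoly_spec :
    (∀ i, i < P.deg K → MvPolynomial.map (algebraMap A K) (P.coeffPoly i) = 0) ∧
      MvPolynomial.map (algebraMap A K) (P.coeffPoly (P.deg K)) ≠ 0 := by
  let K' := AlgebraicClosure K
  have hinj : Function.Injective (MvPolynomial.map (σ := Fin P.m) (algebraMap K K')) :=
    MvPolynomial.map_injective _ (algebraMap K K').injective
  have hev : ∀ (y : Fin P.m → K') (i : ℕ), MvPolynomial.eval y
      (MvPolynomial.map (algebraMap K K') (MvPolynomial.map (algebraMap A K) (P.coeffPoly i))) =
        MvPolynomial.aeval y (P.coeffPoly i) := fun y i => by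
    rw [MvPolynomial.map_map, MvPolynomial.eval_map, ← IsScalarTower.algebraMap_eq, MvPolynomial.aeval_def]
  have hdeg : P.deg K = P.deg K' := by
    rw [Pres.deg, Pres.deg, rank_tower K K', finrank_tower K K']
  constructor
  · intro i hi
    refine hinj (MvPolynomial.funext fun y => ?_)
    rw [map_zero, map_zero, hev, aeval_coeffPoly]
    rw [hdeg, Pres.deg] at hi
    rcases lt_or_ge i (P.m - finrank K' (K' ⊗[A] L)) with h | h
    · rw [Polynomial.coeff_X_pow_mul', if_neg (not_le.2 h)]
    · rw [Polynomial.coeff_X_pow_mul', if_pos h]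
      refine Polynomial.coeff_eq_zero_of_lt_natTrailingDegree (lt_of_lt_of_le ?_
        (LieAlgebra.rank_le_natTrailingDegree_charpoly_ad K' _))
      omega
  · intro h0
    obtain ⟨x, hx⟩ := LieAlgebra.exists_isRegular K' (K' ⊗[A] L)
    let bb := Algebra.TensorProduct.basis K' (Pi.basisFun A (Fin P.m))
    let z := P.sec.baseChange K' x
    have hz : P.pr.baseChange K' z = x := by
      rw [← LinearMap.comp_apply, ← LinearMap.baseChange_comp,
        show P.pr ∘ₗ P.sec = LinearMap.id from LinearMap.ext P.pr_sec, LinearMap.baseChange_id, LinearMap.id_apply]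
    have h1 := hev (Finsupp.equivFunOnFinite (bb.repr z)) (P.deg K)
    rw [h0, map_zero, map_zero, aeval_coeffPoly, Equiv.symm_apply_apply, LinearEquiv.symm_apply_apply, hz, hdeg,
      Pres.deg, Polynomial.coeff_X_pow_mul] at h1
    exact hx h1.symm

theorem deg_tower (K₂ : Type u) [Field K₂] [Algebra A K₂] [Algebra K K₂] [IsScalarTower A K K₂] :
    P.deg K₂ = P.deg K := by
  rw [Pres.deg, Pres.deg, rank_tower K K₂, finrank_tower K K₂]

theorem map_charpoly_op (a : L) :
    (P.op a).charpoly.map (algebraMap A K) =
      Polynomial.X ^ (P.m - finrank K (K ⊗[A] L)) * (ad K (K ⊗[A] L) ((1 : K) ⊗ₜ[A] a)).charpoly := by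
  rw [← charpoly_conj_ad, ← LinearMap.charpoly_baseChange]
  congr 1
  refine LinearMap.ext fun w => ?_
  induction w using TensorProduct.induction_on with
  | zero => simp
  | add x y hx hy => rw [map_add, map_add, hx, hy]
  | tmul d y => simp [Pres.op, LieAlgebra.ExtendScalars.bracket_tmul]

theorem isRegular_iff (a : L) :
    IsRegular K ((1 : K) ⊗ₜ[A] a) ↔ algebraMap A K ((P.op a).charpoly.coeff (P.deg K)) ≠ 0 := by
  rw [isRegular_def, ← Polynomial.coeff_map, map_charpoly_op, Pres.deg, Polynomial.coeff_X_pow_mul]

theorem map_coeff_eq_zero_of_lt (a : L) {i : ℕ} (hi : i < P.deg K) :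
    algebraMap A K ((P.op a).charpoly.coeff i) = 0 := by
  rw [← Polynomial.coeff_map, map_charpoly_op, Polynomial.coeff_X_pow_mul']
  split_ifs with h
  · refine Polynomial.coeff_eq_zero_of_lt_natTrailingDegree (lt_of_lt_of_le ?_
      (LieAlgebra.rank_le_natTrailingDegree_charpoly_ad K _))
    rw [Pres.deg] at hi
    omega
  · rfl

include P in
theorem isRegular_tower_iff (K₂ : Type u) [Field K₂] [Algebra A K₂] [Algebra K K₂] [IsScalarTower A K K₂] (a : L) :
    IsRegular K₂ ((1 : K₂) ⊗ₜ[A] a) ↔ IsRegular K ((1 : K) ⊗ₜ[A] a) := by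
  rw [isRegular_iff P, isRegular_iff P, deg_tower P K K₂, IsScalarTower.algebraMap_apply A K K₂, map_ne_zero]

end Field

section Residue

variable [Module.Finite A L] [Module.Projective A L] {S : Type u} [CommRing S] [Algebra A S] (q : PrimeSpectrum S)

theorem fibre_baseChange (a : L) :
    (LieAlgebra.rank q.asIdeal.ResidueField (q.asIdeal.ResidueField ⊗[S] (S ⊗[A] L)) =
        LieAlgebra.rank (q.asIdeal.comap (algebraMap A S)).ResidueField
          ((q.asIdeal.comap (algebraMap A S)).ResidueField ⊗[A] L)) ∧
    (IsRegular q.asIdeal.ResidueField ((1 : q.asIdeal.ResidueField) ⊗ₜ[S] ((1 : S) ⊗ₜ[A] a)) ↔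
      IsRegular (q.asIdeal.comap (algebraMap A S)).ResidueField
        ((1 : (q.asIdeal.comap (algebraMap A S)).ResidueField) ⊗ₜ[A] a)) := by
  obtain ⟨P⟩ := exists_pres (A := A) (L := L)
  let k := (q.asIdeal.comap (algebraMap A S)).ResidueField
  let K := q.asIdeal.ResidueField
  letI : Algebra k K := (Ideal.ResidueField.map (q.asIdeal.comap (algebraMap A S)) q.asIdeal (algebraMap A S) rfl).toAlgebra
  haveI : IsScalarTower A k K := IsScalarTower.of_algebraMap_eq fun x => by
    rw [RingHom.algebraMap_toAlgebra, Ideal.ResidueField.map_algebraMap, ← IsScalarTower.algebraMap_apply]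
  constructor
  · rw [rank_eq_of_equiv (cancelLie A S K L), rank_tower k K]
  · rw [← isRegular_equiv_iff (cancelLie A S K L), cancelLie_one_tmul, map_one]
    exact isRegular_tower_iff P k K a

end Residue

end

end Groth.Agent.H20Cartan
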