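import Mathlib

/-!
Rank and regular elements of Lie algebras over fields: invariance, base change, and nilpotency of the
Engel subalgebra of a regular element over any field.
-/

set_option autoImplicit false

universe u

open TensorProduct LieAlgebra Module

namespace Groth.Agent.H20Cartan

noncomputable section

attribute [local instance 100] LieRing.ofAssociativeRing

variable {K : Type u} [Field K] {V W : Type u} [LieRing V] [LieAlgebra K V] [Module.Finite K V]
  [LieRing W] [LieAlgebra K W] [Module.Finite K W]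

theorem charpoly_ad_equiv (e : V ≃ₗ⁅K⁆ W) (x : V) : (ad K W (e x)).charpoly = (ad K V x).charpoly := by
  rw [← LinearEquiv.charpoly_conj e.toLinearEquiv (ad K V x)]
  congr 1
  refine LinearMap.ext fun y => ?_
  obtain ⟨z, rfl⟩ := e.toLinearEquiv.surjective y
  rw [LinearEquiv.conj_apply_apply, LinearEquiv.symm_apply_apply]
  exact (e.map_lie x z).symm

theorem rank_eq_of_equiv_of_infinite [Infinite K] (e : V ≃ₗ⁅K⁆ W) : rank K V = rank K W := by
  have key : ∀ {V W : Type u} [LieRing V] [LieAlgebra K V] [Module.Finite K V] [LieRing W] [LieAlgebra K W]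
      [Module.Finite K W], (V ≃ₗ⁅K⁆ W) → rank K W ≤ rank K V := by
    intro V W _ _ _ _ _ _ e
    obtain ⟨x, hx⟩ := exists_isRegular K V
    rw [← (isRegular_iff_natTrailingDegree_charpoly_eq_rank K x).1 hx, ← charpoly_ad_equiv e]
    exact rank_le_natTrailingDegree_charpoly_ad K (e x)
  exact le_antisymm (key e.symm) (key e)

variable (K V) in
theorem rank_baseChange (K' : Type u) [Field K'] [Algebra K K'] :
    rank K' (K' ⊗[K] V) = rank K V := by
  classical
  let b := Module.finBasis K V
  rw [rank_eq_natTrailingDegree K' (K' ⊗[K] V) (Algebra.TensorProduct.basis K' b), rank_eq_natTrailingDegree K V b]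
  have h : (ad K' (K' ⊗[K] V)).toLinearMap =
      LinearMap.tensorProduct K K' V V ∘ₗ (ad K V).toLinearMap.baseChange K' := by
    refine LinearMap.ext fun z => ?_
    induction z using TensorProduct.induction_on with
    | zero => simp
    | add x y hx hy => rw [map_add, map_add, hx, hy]
    | tmul c x =>
      refine LinearMap.ext fun w => ?_
      induction w using TensorProduct.induction_on with
      | zero => simp
      | add p q hp hq => rw [map_add, map_add, hp, hq]
      | tmul d y =>
        show ⁅c ⊗ₜ[K] x, d ⊗ₜ[K] y⁆ = _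
        simp [LinearMap.tensorProduct, LieAlgebra.ExtendScalars.bracket_tmul, TensorProduct.smul_tmul']
  rw [h, LinearMap.polyCharpoly_baseChange]
  obtain ⟨d, hd⟩ : ∃ d, d = (LinearMap.polyCharpoly (ad K V).toLinearMap b).natTrailingDegree := ⟨_, rfl⟩
  have hinj : Function.Injective (MvPolynomial.map (σ := Fin (finrank K V)) (algebraMap K K')) :=
    MvPolynomial.map_injective _ (algebraMap K K').injective
  have hne := LinearMap.polyCharpoly_ne_zero (ad K V).toLinearMap b
  refine le_antisymm (Polynomial.natTrailingDegree_le_of_ne_zero ?_) (Polynomial.le_natTrailingDegree ?_ ?_)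
  · rw [Polynomial.coeff_map, Ne, map_eq_zero_iff _ hinj]
    exact fun h => Polynomial.trailingCoeff_nonzero_iff_nonzero.2 hne h
  · exact (Polynomial.map_ne_zero_iff hinj).2 hne
  · intro i hi
    rw [Polynomial.coeff_map, Polynomial.coeff_eq_zero_of_lt_natTrailingDegree hi, map_zero]

theorem congr_lie (K' : Type u) [Field K'] [Algebra K K'] (e : V ≃ₗ⁅K⁆ W) (x y : K' ⊗[K] V) :
    TensorProduct.AlgebraTensorModule.congr (LinearEquiv.refl K' K') e.toLinearEquiv ⁅x, y⁆ =
      ⁅TensorProduct.AlgebraTensorModule.congr (LinearEquiv.refl K' K') e.toLinearEquiv x,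
        TensorProduct.AlgebraTensorModule.congr (LinearEquiv.refl K' K') e.toLinearEquiv y⁆ := by
  induction x using TensorProduct.induction_on with
  | zero => simp
  | add p q hp hq => rw [add_lie, map_add, map_add, hp, hq, add_lie]
  | tmul c x =>
    induction y using TensorProduct.induction_on with
    | zero => simp
    | add p q hp hq => rw [lie_add, map_add, map_add, hp, hq, lie_add]
    | tmul d y =>
      simp only [LieAlgebra.ExtendScalars.bracket_tmul, TensorProduct.AlgebraTensorModule.congr_tmul,
        LinearEquiv.refl_apply]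
      exact congrArg _ (e.map_lie x y)

/-- Base change of an isomorphism of Lie algebras. -/
def baseChangeEquiv (K' : Type u) [Field K'] [Algebra K K'] (e : V ≃ₗ⁅K⁆ W) :
    (K' ⊗[K] V) ≃ₗ⁅K'⁆ (K' ⊗[K] W) :=
  { TensorProduct.AlgebraTensorModule.congr (LinearEquiv.refl K' K') e.toLinearEquiv with
    map_lie' := fun {x y} => congr_lie K' e x y }

theorem rank_eq_of_equiv (e : V ≃ₗ⁅K⁆ W) : rank K V = rank K W := by
  let K' := AlgebraicClosure K
  rw [← rank_baseChange K V K', ← rank_baseChange K W K']
  exact rank_eq_of_equiv_of_infinite (baseChangeEquiv K' e)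

theorem isRegular_equiv_iff (e : V ≃ₗ⁅K⁆ W) (x : V) : IsRegular K (e x) ↔ IsRegular K x := by
  rw [isRegular_def, isRegular_def, charpoly_ad_equiv, rank_eq_of_equiv e]

/-- Over an infinite field the Engel subalgebra of a regular element is nilpotent. -/
theorem isNilpotent_engel_of_infinite [Infinite K] {x : V} (hx : IsRegular K x) :
    LieRing.IsNilpotent (LieSubalgebra.engel K x) := by
  have h : finrank K V ≤ Cardinal.mk K :=
    Cardinal.natCast_le_aleph0.trans (Cardinal.infinite_iff.mp ‹Infinite K›)
  apply LieSubalgebra.isNilpotent_of_forall_le_engel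
  intro y hy
  set Ex : {LieSubalgebra.engel K z | z ∈ LieSubalgebra.engel K x} :=
    ⟨LieSubalgebra.engel K x, x, LieSubalgebra.self_mem_engel _ _, rfl⟩
  suffices IsBot Ex from @this ⟨LieSubalgebra.engel K y, y, hy, rfl⟩
  apply LieAlgebra.engel_isBot_of_isMin h (LieSubalgebra.engel K x) Ex le_rfl
  rintro ⟨_, y, hy, rfl⟩ hyx
  suffices finrank K (LieSubalgebra.engel K x) ≤ finrank K (LieSubalgebra.engel K y) by
    suffices LieSubalgebra.engel K y = LieSubalgebra.engel K x from this.ge
    apply LieSubalgebra.toSubmodule_injective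
    exact Submodule.eq_of_le_of_finrank_le hyx this
  rw [(isRegular_iff_finrank_engel_eq_rank K x).mp hx]
  apply rank_le_finrank_engel

theorem isRegular_one_tmul_iff (K' : Type u) [Field K'] [Algebra K K'] (x : V) :
    IsRegular K' ((1 : K') ⊗ₜ[K] x) ↔ IsRegular K x := by
  rw [isRegular_def, isRegular_def, rank_baseChange]
  have h : ad K' (K' ⊗[K] V) ((1 : K') ⊗ₜ[K] x) = (ad K V x).baseChange K' := by
    refine LinearMap.ext fun w => ?_
    induction w using TensorProduct.induction_on with
    | zero => simp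
    | add p q hp hq => rw [map_add, map_add, hp, hq]
    | tmul d y => simp [LieAlgebra.ExtendScalars.bracket_tmul]
  rw [h, LinearMap.charpoly_baseChange, Polynomial.coeff_map, map_ne_zero]

theorem ad_pow_one_tmul {A : Type u} [CommRing A] {L : Type u} [LieRing L] [LieAlgebra A L]
    (S : Type u) [CommRing S] [Algebra A S] (a : L) (n : ℕ) (y : L) :
    ((ad S (S ⊗[A] L) ((1 : S) ⊗ₜ[A] a)) ^ n) ((1 : S) ⊗ₜ[A] y) = (1 : S) ⊗ₜ[A] ((ad A L a ^ n) y) := by
  induction n generalizing y with
  | zero => rfl
  | succ n ih =>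
    rw [pow_succ, pow_succ, Module.End.mul_apply, Module.End.mul_apply, ad_apply, ad_apply,
      LieAlgebra.ExtendScalars.bracket_tmul, mul_one, ih]

/-- The Engel subalgebra of a regular element is nilpotent over any field. -/
theorem isNilpotent_engel {x : V} (hx : IsRegular K x) : LieRing.IsNilpotent (LieSubalgebra.engel K x) := by
  let K' := AlgebraicClosure K
  haveI := isNilpotent_engel_of_infinite ((isRegular_one_tmul_iff K' x).2 hx)
  have hmem : ∀ y : LieSubalgebra.engel K x, ((1 : K') ⊗ₜ[K] (y : V)) ∈
      LieSubalgebra.engel K' ((1 : K') ⊗ₜ[K] x) := by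
    rintro ⟨y, hy⟩
    obtain ⟨n, hn⟩ := (LieSubalgebra.mem_engel_iff K x y).1 hy
    exact (LieSubalgebra.mem_engel_iff K' _ _).2 ⟨n, by rw [ad_pow_one_tmul, hn, TensorProduct.tmul_zero]⟩
  let f : LieSubalgebra.engel K x →ₗ⁅ℤ⁆ LieSubalgebra.engel K' ((1 : K') ⊗ₜ[K] x) :=
    { toFun := fun y => ⟨_, hmem y⟩
      map_add' := fun y z => Subtype.ext (TensorProduct.tmul_add _ _ _)
      map_smul' := fun c y => Subtype.ext (TensorProduct.tmul_smul c _ _)
      map_lie' := fun {y z} => Subtype.ext (by simp [LieAlgebra.ExtendScalars.bracket_tmul]) }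
  refine Function.Injective.lieAlgebra_isNilpotent (f := f) fun y z h => Subtype.ext ?_
  obtain ⟨ψ, hψ⟩ := LinearMap.exists_leftInverse_of_injective (Algebra.linearMap K K')
    (LinearMap.ker_eq_bot.2 (algebraMap K K').injective)
  have h1 : ψ 1 = 1 := by simpa using LinearMap.congr_fun hψ 1
  have h0 : (1 : K') ⊗ₜ[K] (y : V) = (1 : K') ⊗ₜ[K] (z : V) := congrArg Subtype.val h
  simpa [h1] using congrArg (fun z => TensorProduct.lid K V (ψ.rTensor V z)) h0

end

end Groth.Agent.H20Cartan
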