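import Groth.Agent.H20Cartan.Open

/-!
Over a reduced base with locally constant rank, quasi-regular sections are regular.
-/

set_option autoImplicit false

universe u

open TensorProduct LieAlgebra Module SGA3t2b

namespace Groth.Agent.H20Cartan

noncomputable section

attribute [local instance 100] LieRing.ofAssociativeRing

variable {A : Type u} [CommRing A] {L : Type u} [LieRing L] [LieAlgebra A L] [Module.Finite A L]

section Fam

variable (P : Pres A L) (S : Type u) [CommRing S] [Algebra A S]

theorem fam_baseChange' (z : S ⊗[A] (Fin P.m → A)) :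
    LinearMap.tensorProduct A S (Fin P.m → A) (Fin P.m → A) (P.fam.baseChange S z) =
      (P.sec.baseChange S) ∘ₗ ad S (S ⊗[A] L) (P.pr.baseChange S z) ∘ₗ (P.pr.baseChange S) := by
  induction z using TensorProduct.induction_on with
  | zero => simp
  | add x y hx hy => simp only [map_add, hx, hy, LinearMap.add_comp, LinearMap.comp_add]
  | tmul c x =>
    refine LinearMap.ext fun w => ?_
    induction w using TensorProduct.induction_on with
    | zero => simp
    | add x y hx hy => simp only [map_add, hx, hy]
    | tmul d y =>
      simp [LinearMap.tensorProduct, Pres.fam, LieAlgebra.ExtendScalars.bracket_tmul, TensorProduct.smul_tmul']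

/-- The operator on the free module over `S` induced by a section over `S`. -/
def Pres.opS (a : S ⊗[A] L) : Module.End S (S ⊗[A] (Fin P.m → A)) :=
  (P.sec.baseChange S) ∘ₗ ad S (S ⊗[A] L) a ∘ₗ (P.pr.baseChange S)

/-- The coordinates of a section over `S`. -/
def Pres.coord (a : S ⊗[A] L) : Fin P.m → S :=
  Finsupp.equivFunOnFinite ((Algebra.TensorProduct.basis S (Pi.basisFun A (Fin P.m))).repr (P.sec.baseChange S a))

omit [Module.Finite A L] in
theorem pr_sec_baseChange (a : S ⊗[A] L) : P.pr.baseChange S (P.sec.baseChange S a) = a := by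
  rw [← LinearMap.comp_apply, ← LinearMap.baseChange_comp,
    show P.pr ∘ₗ P.sec = LinearMap.id from LinearMap.ext P.pr_sec, LinearMap.baseChange_id, LinearMap.id_apply]

theorem aeval_coord (a : S ⊗[A] L) (i : ℕ) :
    MvPolynomial.aeval (P.coord S a) (P.coeffPoly i) = (P.opS S a).charpoly.coeff i := by
  have h := LinearMap.polyCharpolyAux_map_aeval P.fam (Pi.basisFun A (Fin P.m))
    (Module.Free.chooseBasis A (Fin P.m → A)) S (P.coord S a)
  have hz : (Algebra.TensorProduct.basis S (Pi.basisFun A (Fin P.m))).repr.symm
      (Finsupp.equivFunOnFinite.symm (P.coord S a)) = P.sec.baseChange S a := by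
    rw [Pres.coord, Equiv.symm_apply_apply, LinearEquiv.symm_apply_apply]
  rw [hz, LinearMap.comp_apply, fam_baseChange', pr_sec_baseChange] at h
  have h' := congrArg (fun p => Polynomial.coeff p i) h
  simp only [Polynomial.coeff_map] at h'
  exact h'

end Fam

variable [Module.Projective A L]

theorem isRegularRel_of_reduced [IsReduced A]
    (hr : IsLocallyConstant (fun p : PrimeSpectrum A =>
      LieAlgebra.rank p.asIdeal.ResidueField (p.asIdeal.ResidueField ⊗[A] L)))
    (A' : Type u) [CommRing A'] [Algebra A A'] (a' : A' ⊗[A] L)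
    (ha' : IsQuasiRegular A' (A' ⊗[A] L) a') : IsRegularRel A' (A' ⊗[A] L) a' := by
  classical
  obtain ⟨P⟩ := exists_pres (A := A) (L := L)
  have hd := isLocallyConstant_deg P hr
  let u : Module.End A' (A' ⊗[A] L) := ad A' (A' ⊗[A] L) a'
  let W : Module.End A' (A' ⊗[A] (Fin P.m → A)) := P.opS A' a'
  have hW : ∀ (j : ℕ) (z : A' ⊗[A] L), (W ^ j) (P.sec.baseChange A' z) = P.sec.baseChange A' ((u ^ j) z) := by
    intro j
    induction j with
    | zero => intro z; rfl
    | succ j ih =>
      intro z
      rw [pow_succ', pow_succ', Module.End.mul_apply, Module.End.mul_apply, ih]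
      show P.sec.baseChange A' (u (P.pr.baseChange A' (P.sec.baseChange A' _))) = _
      rw [pr_sec_baseChange]
  let χ := W.charpoly
  have hann : Polynomial.aeval u χ = 0 := by
    refine LinearMap.ext fun z => ?_
    have h := congrArg (fun g : Module.End A' (A' ⊗[A] (Fin P.m → A)) => P.pr.baseChange A' (g (P.sec.baseChange A' z)))
      (LinearMap.aeval_self_charpoly W)
    simp only [LinearMap.zero_apply, map_zero, Polynomial.aeval_eq_sum_range, LinearMap.sum_apply, map_sum,
      LinearMap.smul_apply, map_smul, hW, pr_sec_baseChange] at h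
    rw [Polynomial.aeval_eq_sum_range, LinearMap.sum_apply, LinearMap.zero_apply]
    simpa only [LinearMap.smul_apply] using h
  -- the ideal of multipliers
  let J : Submodule A' (Module.End A' (A' ⊗[A] L)) := LinearMap.range
    ((LinearMap.mulLeft A' (u ^ (P.m + 1))) ∘ₗ (Polynomial.aeval (R := A') u).toLinearMap)
  let I : Ideal A' := J.comap (LinearMap.toSpanSingleton A' _ (u ^ P.m))
  have hI : I = ⊤ := by
    by_contra hne
    obtain ⟨Q, hQ, hIQ⟩ := Ideal.exists_le_maximal I hne
    let q : PrimeSpectrum A' := ⟨Q, hQ.isPrime⟩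
    let p : PrimeSpectrum A := PrimeSpectrum.comap (algebraMap A A') q
    obtain ⟨f, hf, hfd⟩ := (forall_exists_iff_isLocallyConstant _).2 hd p
    obtain ⟨d, hdd⟩ : ∃ d, d = P.deg p.asIdeal.ResidueField := ⟨_, rfl⟩
    -- the low coefficients are killed by `f`
    have hlow : ∀ i < d, algebraMap A A' f * χ.coeff i = 0 := by
      intro i hi
      have hpoly : ∀ e, f * MvPolynomial.coeff e (P.coeffPoly i) = 0 := fun e => by
        refine (IsReduced.eq_zero _ ?_)
        rw [← mem_nilradical, nilradical_eq_sInf, Ideal.mem_sInf]
        intro r hr'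
        haveI : r.IsPrime := hr'
        by_cases hfr : f ∈ r
        · exact r.mul_mem_right _ hfr
        · refine r.mul_mem_left _ ?_
          have h1 := (coeffPoly_spec P r.ResidueField).1 i (by
            rw [show P.deg r.ResidueField = P.deg p.asIdeal.ResidueField from hfd ⟨r, hr'⟩ hfr, ← hdd]; exact hi)
          have h2 := congrArg (MvPolynomial.coeff e) h1
          rw [MvPolynomial.coeff_map, MvPolynomial.coeff_zero] at h2
          exact Ideal.algebraMap_residueField_eq_zero.1 h2
      show algebraMap A A' f * (P.opS A' a').charpoly.coeff i = 0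
      rw [← aeval_coord, ← Algebra.smul_def, ← map_smul]
      rw [show f • P.coeffPoly i = 0 from MvPolynomial.ext _ _ fun e => by
        rw [MvPolynomial.coeff_smul, smul_eq_mul, hpoly, MvPolynomial.coeff_zero], map_zero]
    -- the coefficient in degree `d` is not in `Q`
    have hcd : χ.coeff d ∉ Q := by
      intro hmem
      let K := q.asIdeal.ResidueField
      let k := (q.asIdeal.comap (algebraMap A A')).ResidueField
      letI : Algebra k K := (Ideal.ResidueField.map (q.asIdeal.comap (algebraMap A A')) q.asIdeal (algebraMap A A') rfl).toAlgebra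
      haveI : IsScalarTower A k K := IsScalarTower.of_algebraMap_eq fun x => by
        rw [RingHom.algebraMap_toAlgebra, Ideal.ResidueField.map_algebraMap, ← IsScalarTower.algebraMap_apply]
      have hdK : d = P.deg K := by rw [hdd, deg_tower P k K]; rfl
      let φ : A' →ₐ[A] K := IsScalarTower.toAlgHom A A' K
      let z : K ⊗[A] L := cancelLie A A' K L ((1 : K) ⊗ₜ[A'] a')
      have hz : IsRegular K z := (isRegular_equiv_iff (cancelLie A A' K L) _).2 (ha' q)
      have hcoord : P.coord K z = φ ∘ P.coord A' a' := by
        have e1 : P.sec.baseChange K z =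
            LinearMap.rTensor (Fin P.m → A) φ.toLinearMap (P.sec.baseChange A' a') := by
          show P.sec.baseChange K (TensorProduct.AlgebraTensorModule.cancelBaseChange A A' K K L _) = _
          clear_value u W
          generalize a' = w
          induction w using TensorProduct.induction_on with
          | zero => simp
          | add x y hx hy => simp only [TensorProduct.tmul_add, map_add, hx, hy]
          | tmul c l =>
            rw [TensorProduct.AlgebraTensorModule.cancelBaseChange_tmul, LinearMap.baseChange_tmul,
              LinearMap.baseChange_tmul, LinearMap.rTensor_tmul, Algebra.smul_def, mul_one]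
            rfl
        funext j
        rw [Function.comp_apply, Pres.coord, Pres.coord, Finsupp.equivFunOnFinite_apply,
          Finsupp.equivFunOnFinite_apply, e1]
        induction (P.sec.baseChange A' a') using TensorProduct.induction_on with
        | zero => simp
        | add x y hx hy => simp only [map_add, Finsupp.add_apply, hx, hy]
        | tmul c l =>
          simp only [LinearMap.rTensor_tmul, Algebra.TensorProduct.basis_repr_tmul, Finsupp.smul_apply,
            Finsupp.mapRange_apply, smul_eq_mul, AlgHom.toLinearMap_apply, map_mul, AlgHom.commutes]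
      have h0 : MvPolynomial.aeval (P.coord K z) (P.coeffPoly d) = 0 := by
        rw [hcoord, show (⇑φ ∘ P.coord A' a') = (fun i => φ (P.coord A' a' i)) from rfl,
          ← MvPolynomial.comp_aeval_apply, aeval_coord]
        exact (Ideal.algebraMap_residueField_eq_zero (I := q.asIdeal)).2 hmem
      rw [aeval_coord, show P.opS K z = (P.sec.baseChange K) ∘ₗ ad K (K ⊗[A] L) z ∘ₗ (P.pr.baseChange K) from rfl,
        charpoly_conj_ad, hdK, Pres.deg, Polynomial.coeff_X_pow_mul] at h0
      exact hz h0
    have hdm : d ≤ P.m := by
      rw [hdd, Pres.deg]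
      have h1 := LieAlgebra.rank_le_finrank p.asIdeal.ResidueField (p.asIdeal.ResidueField ⊗[A] L)
      have h2 := finrank_le P p.asIdeal.ResidueField
      omega
    have hmem : algebraMap A A' f * χ.coeff d ∈ I := by
      show (algebraMap A A' f * χ.coeff d) • u ^ P.m ∈ J
      let G : Polynomial A' := -∑ i ∈ Finset.range χ.natDegree.succ,
        if d < i then Polynomial.C (algebraMap A A' f * χ.coeff i) * Polynomial.X ^ (i - d - 1) else 0
      refine ⟨G, ?_⟩
      rw [LinearMap.comp_apply, LinearMap.mulLeft_apply, AlgHom.toLinearMap_apply]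
      have key : ∀ i, (algebraMap A A' f * χ.coeff i) • u ^ (P.m - d + i) =
          (if d < i then u ^ (P.m + 1) * Polynomial.aeval u
            (Polynomial.C (algebraMap A A' f * χ.coeff i) * Polynomial.X ^ (i - d - 1)) else 0) +
          (if i = d then (algebraMap A A' f * χ.coeff d) • u ^ P.m else 0) := by
        intro i
        rcases lt_trichotomy i d with h | h | h
        · rw [if_neg (by omega), if_neg (by omega), hlow i h, zero_smul, add_zero]
        · subst h; rw [if_neg (lt_irrefl i), if_pos rfl, zero_add, Nat.sub_add_cancel hdm]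
        · rw [if_pos h, if_neg (by omega), add_zero, map_mul, Polynomial.aeval_C, map_pow, Polynomial.aeval_X,
            ← Algebra.smul_def (A := Module.End A' (A' ⊗[A] L)), mul_smul_comm, ← pow_add]
          congr 2
          omega
      have hsum : ∑ i ∈ Finset.range χ.natDegree.succ, (algebraMap A A' f * χ.coeff i) • u ^ (P.m - d + i) = 0 := by
        have h := congrArg (fun g => algebraMap A A' f • (u ^ (P.m - d) * g)) hann
        simp only [mul_zero, smul_zero, Polynomial.aeval_eq_sum_range, Finset.mul_sum, Finset.smul_sum] at h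
        rw [← h]
        refine Finset.sum_congr rfl fun i _ => ?_
        rw [mul_smul_comm, smul_smul, pow_add]
      have hdn : d ∈ Finset.range χ.natDegree.succ := by
        rw [Finset.mem_range]
        refine Nat.lt_succ_of_le (le_of_not_gt fun hlt => hcd ?_)
        rw [Polynomial.coeff_eq_zero_of_natDegree_lt hlt]
        exact zero_mem _
      simp only [key, Finset.sum_add_distrib, Finset.sum_ite_eq', if_pos hdn] at hsum
      rw [map_neg, map_sum]
      erw [mul_neg]
      rw [neg_eq_iff_add_eq_zero, Finset.mul_sum, ← hsum]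
      congr 1
      refine Finset.sum_congr rfl fun i _ => ?_
      split_ifs <;> simp
    have hQf : algebraMap A A' f ∉ Q := hf
    exact (q.isPrime.mul_notMem hQf hcd) (hIQ hmem)
  obtain ⟨G, hG⟩ : ∃ G : Polynomial A', u ^ (P.m + 1) * Polynomial.aeval u G = u ^ P.m := by
    have h1 : (1 : A') ∈ I := by rw [hI]; exact Submodule.mem_top
    obtain ⟨G, hG⟩ := h1
    refine ⟨G, ?_⟩
    rw [LinearMap.toSpanSingleton_apply, one_smul] at hG
    exact hG
  let g := Polynomial.aeval u G
  have hug : Commute u g := by
    have h := (Commute.all (Polynomial.X : Polynomial A') G).map (Polynomial.aeval (R := A') u)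
    rwa [Polynomial.aeval_X] at h
  have hiter : ∀ j, u ^ P.m = u ^ (P.m + j) * g ^ j := by
    intro j
    induction j with
    | zero => simp
    | succ j ih =>
      calc u ^ P.m = u ^ (P.m + j) * g ^ j := ih
        _ = u ^ j * (u ^ (P.m + 1) * g) * g ^ j := by
          rw [show u ^ (P.m + j) = u ^ j * u ^ P.m by rw [← pow_add, add_comm], hG]
        _ = u ^ (P.m + (j + 1)) * g ^ (j + 1) := by
          rw [← mul_assoc, ← pow_add, show j + (P.m + 1) = P.m + (j + 1) by omega, mul_assoc, ← pow_succ']
  let π := u ^ P.m * g ^ P.m
  have hπu : u ^ P.m * π = u ^ P.m := by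
    rw [← mul_assoc, ← pow_add]; exact (hiter P.m).symm
  have hππ : π * π = π := by
    calc π * π = (u ^ P.m * π) * g ^ P.m := by
          show (u ^ P.m * g ^ P.m) * (u ^ P.m * g ^ P.m) = (u ^ P.m * (u ^ P.m * g ^ P.m)) * g ^ P.m
          rw [mul_assoc, ← mul_assoc (g ^ P.m), ← (hug.pow_pow P.m P.m).eq]
          simp only [mul_assoc]
      _ = π := by rw [hπu]
  have hker : ∀ y, y ∈ LieSubalgebra.engel A' a' ↔ π y = 0 := fun y => by
    rw [LieSubalgebra.mem_engel_iff]
    constructor
    · rintro ⟨n, hn⟩
      have h1 : (u ^ P.m) y = 0 := by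
        rw [hiter n, (hug.pow_pow (P.m + n) n).eq, pow_add,
          Module.End.mul_apply, Module.End.mul_apply, hn, map_zero, map_zero]
      show (u ^ P.m * g ^ P.m) y = 0
      rw [(hug.pow_pow P.m P.m).eq, Module.End.mul_apply, h1, map_zero]
    · intro h
      refine ⟨P.m, ?_⟩
      show (u ^ P.m) y = 0
      rw [← hπu, Module.End.mul_apply, h, map_zero]
  have hidem : ∀ y, π (π y) = π y := fun y => LinearMap.congr_fun hππ y
  have hproj : Module.Projective A' ((A' ⊗[A] L) ⧸ (LieSubalgebra.engel A' a').toSubmodule) := by
    refine Module.Projective.of_split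
      ((LieSubalgebra.engel A' a').toSubmodule.liftQ π fun y hy => (hker y).1 hy)
      (LieSubalgebra.engel A' a').toSubmodule.mkQ (Submodule.linearMap_qext _ (LinearMap.ext fun y => ?_))
    refine (Submodule.Quotient.eq _).2 ((hker _).2 ?_)
    rw [map_sub]
    show π (π y) - π y = 0
    rw [hidem, sub_self]
  have hreg := ha'
  refine ⟨hreg, _, isCartanRel_engel hreg hproj (fun z hz => ?_) (fun y => ?_), LieSubalgebra.self_mem_engel A' a'⟩
  · obtain ⟨n, hn⟩ := (LieSubalgebra.mem_engel_iff A' a' _).1 hz
    exact (LieSubalgebra.mem_engel_iff A' a' z).2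
      ⟨n + 1, by rw [pow_succ, Module.End.mul_apply, ad_apply]; exact hn⟩
  · refine ⟨(u ^ P.m * g ^ (P.m + 1)) y, (hker _).2 ?_⟩
    have h : u ((u ^ P.m * g ^ (P.m + 1)) y) = π y := by
      rw [← Module.End.mul_apply, ← mul_assoc, ← pow_succ', pow_succ' g, ← mul_assoc, hG]
    show π (u _ - y) = 0
    rw [h, map_sub, hidem, sub_self]

end

end Groth.Agent.H20Cartan
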